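import Groth.Agent.Lib.ZarCoh.PushH
import Groth.Agent.Lib.CohDelta.RAcyc
import Groth.Agent.Lib.ZarCoh.RpushVanish

/-!
`H^n(V, f_* F) = H^n(f⁻¹V, F)` when the higher direct images of `F` vanish.
-/

set_option linter.style.haveILetI false

universe u

open CategoryTheory CategoryTheory.Limits TopologicalSpace Opposite CategoryTheory.Abelian
open Groth.Agent.Lib.ZarCoh Groth.Agent.Lib.ZarCoh.Basic Groth.Agent.Lib.ZarCoh.Compare

namespace Groth.Agent.Lib.LerayDeg51

variable {X Y : TopCat.{u}} {f : X ⟶ Y}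

/-- The higher direct images of `F` vanish in degrees `1..n`. -/
def Van (f : X ⟶ Y) (F : CohTop.Ab X) (n : ℕ) : Prop :=
  ∀ q, q < n → IsZero ((CohTop.Rpush f (q + 1)).obj F)

lemma preservesFiniteLimits_push (f : X ⟶ Y) : PreservesFiniteLimits (CohTop.push f) :=
  haveI : PreservesLimitsOfSize.{0, 0} (CohTop.push f) := (ppAdj f).rightAdjoint_preservesLimits
  PreservesLimitsOfSize.preservesFiniteLimits (CohTop.push f)

lemma isZero_rpush_flasque (F : CohTop.Ab X) [TopCat.Sheaf.IsFlasque F] (q : ℕ) :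
    IsZero ((CohTop.Rpush f (q + 1)).obj F) :=
  RpushVanish.isZero_RpushAb f (B := Set.univ)
    (Opens.isBasis_iff_nbhd.2 fun {U _} hx ↦ ⟨U, Set.mem_univ _, hx, le_rfl⟩) q
    (fun _ _ ↦ HU_flasque F _ q)

lemma Van.X₃ {F : CohTop.Ab X} {n : ℕ} (h : Van f F (n + 1)) : Van f (injSES F).X₃ n := fun q hq ↦ by
  haveI := preservesFiniteLimits_push f
  haveI : (CohTop.push f).Additive := Functor.additive_of_preserves_binary_products _
  obtain ⟨i⟩ := CohDelta.RAcyc.nonempty_shift_iso (CohTop.push f) (injSES_shortExact F)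
    (fun q => isZero_rpush_flasque (injSES F).X₂ q) q
  exact (h (q + 1) (by omega)).of_iso i

lemma isIso_jmap {F : CohTop.Ab X} (h : Van f F 1) : IsIso (Push.jmap f F) := by
  haveI := preservesFiniteLimits_push f
  haveI : (CohTop.push f).Additive := Functor.additive_of_preserves_binary_products _
  haveI := Push.mono_jmap f F
  obtain ⟨i⟩ := CohDelta.RAcyc.nonempty_one_iso (CohTop.push f) (injSES_shortExact F)
    (isZero_rpush_flasque (injSES F).X₂ 0)
  haveI : Epi ((CohTop.push f).map (injSES F).g) :=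
    Preadditive.epi_of_isZero_cokernel _ ((h 0 zero_lt_one).of_iso i.symm)
  haveI : Epi (Push.jmap f F) := epi_of_epi_fac (cokernel.π_desc _ _ _)
  exact isIso_of_mono_of_epi _

variable (V : Opens Y)

/-- Bijectivity in degree `n` and injectivity in degree `n + 1`. -/
theorem bijective_and_injective (n : ℕ) : ∀ F : CohTop.Ab X, Van f F n →
    Function.Bijective (pushMap f V n F) ∧ Function.Injective (pushMap f V (n + 1) F) := by
  induction n with
  | zero =>
    intro F _
    exact Push.bijective_and_injective (B := Set.univ) V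
      (Opens.isBasis_iff_nbhd.2 fun {U _} hx ↦ ⟨U, Set.mem_univ _, hx, le_rfl⟩) 0 F (Push.van_zero F)
  | succ n ih =>
    intro F hF
    haveI := isIso_jmap (F := F) (fun q hq ↦ hF q (by omega))
    have hj : ∀ m, Function.Injective fun y : Ext.{u} (Zs.obj V) (Push.pushT f F).X₃ m ↦
        y.comp (Ext.mk₀ (Push.jmap f F)) (add_zero m) := fun m a b hab ↦ by
      have := congrArg (fun t ↦ Ext.comp t (Ext.mk₀ (inv (Push.jmap f F))) (add_zero m)) hab
      simpa using this
    have hQ := ih _ hF.X₃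
    have hI : ∀ m, Function.Surjective (pushMap f V (m + 1) (injSES F).X₂) :=
      fun m ξ ↦ ⟨0, (HU_flasque (injSES F).X₂ _ m).elim _ _⟩
    have hinj : Function.Injective (pushMap f V (n + 1) F) := by
      cases n with
      | zero => exact Push.injective_succ V 0 (hj 0) hQ.1.1 (Push.pushMap_zero_bijective V _).2
      | succ m => exact Push.injective_succ V (m + 1) (hj _) hQ.1.1 (hI m)
    refine ⟨⟨hinj, fun ξ ↦ ?_⟩, Push.injective_succ V (n + 1) (hj _) hQ.2 (hI n)⟩
    obtain ⟨y, rfl⟩ := Ext.covariant_sequence_exact₁ _ (injSES_shortExact F) ξ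
      ((HU_flasque (injSES F).X₂ _ n).elim _ _) rfl
    obtain ⟨z, rfl⟩ := hQ.1.2 y
    refine ⟨(z.comp (Ext.mk₀ (inv (Push.jmap f F))) (add_zero n)).comp
      (Push.pushT_shortExact f F).extClass rfl, ?_⟩
    rw [Push.pushMap_δ, Ext.comp_assoc_of_second_deg_zero, Ext.mk₀_comp_mk₀, IsIso.inv_hom_id,
      Ext.comp_mk₀_id]

/-- `H^n(Y, f_*F) ≃ H^n(X, F)` if the higher direct images of `F` vanish. -/
noncomputable def pushEquiv (F : CohTop.Ab X)
    (h : ∀ q, IsZero ((CohTop.Rpush f (q + 1)).obj F)) (n : ℕ) :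
    CohTop.H ((CohTop.push f).obj F) n ≃+ CohTop.H F n :=
  AddEquiv.ofBijective (PushH.pushH f F n)
    (PushH.pushH_bijective_of f F n (bijective_and_injective ⊤ n F fun q _ ↦ h q).1)

end Groth.Agent.Lib.LerayDeg51
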